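import Groth.Agent.CohTwo.AmpleTwoPieces
import Groth.Agent.CohTwo.Devissage
import Groth.Agent.S9523
import Groth.Agent.Cycles.SheafCyc
import Groth.Agent.RefRank.Norm.Component
import Groth.Agent.Chow.VeryAmplePn

/-!
# Ampleness descends along finite surjective morphisms of proper schemes
-/

universe u

open CategoryTheory CategoryTheory.Limits AlgebraicGeometry TopologicalSpace Opposite
open Groth.CohTwo

set_option backward.isDefEq.respectTransparency false
set_option backward.defeqAttrib.useBackward true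
set_option backward.isDefEq.respectTransparency.types false

noncomputable section

namespace Groth.Limits.AmpleFinite

variable {A : Type u} [CommRing A] [IsNoetherianRing A] {X : Scheme.{u}}
  (p : X ⟶ Spec (CommRingCat.of A)) [IsProper p] {L : X.Modules}

/-- Eventual vanishing of the higher cohomology of the twists. -/
def Van (L : X.Modules) (F : X.Modules) : Prop :=
  ∃ d₀ : ℕ, ∀ d : ℕ, d₀ ≤ d → ∀ q : ℕ, 0 < q →
    Subsingleton (Coh.HH X (CohB1.tensorMod F (CohB1.tensorPow L d)) q)

include p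

theorem van_congr (M N : X.Modules) (e : Nonempty (M ≅ N)) (h : Van L M) : Van L N := by
  obtain ⟨d₀, hd⟩ := h
  exact ⟨d₀, fun d hdd q hq => Groth.PnCoh.subsingleton_HH_of_iso p
    (PicGrp.tensorModIso e.some (Iso.refl _)) (hd d hdd q hq)⟩

omit [IsNoetherianRing A] [IsProper p] in
theorem van_of_retract {M N : X.Modules} (i : N ⟶ M) (r : M ⟶ N) (h : i ≫ r = 𝟙 N)
    (hM : Van L M) : Van L N := by
  obtain ⟨d₀, hd⟩ := hM
  refine ⟨d₀, fun d hdd q hq => ?_⟩
  let T := DCoh.tensorRightMod (CohB1.tensorPow L d)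
  have : Subsingleton (CohFin.HA p (T.obj M) q) := hd d hdd q hq
  refine (Function.LeftInverse.injective (g := CohFin.mapL p (T.map r) q)
    (f := CohFin.mapL p (T.map i) q) fun x => ?_).subsingleton
  rw [← CohFin.mapL_comp, ← T.map_comp, h, T.map_id, CohFin.mapL_id]

omit [IsNoetherianRing A] [IsProper p] in
theorem van_of_isZero (M : X.Modules) (h : IsZero M) : Van L M := by
  refine ⟨0, fun d _ q _ => ?_⟩
  let T := DCoh.tensorRightMod (CohB1.tensorPow L d)
  have hz : 𝟙 (T.obj M) = 0 := by
    rw [← T.map_id, h.eq_of_src (𝟙 M) 0, T.map_zero]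
  refine ⟨fun a b => ?_⟩
  have key : ∀ x : CohFin.HA p (T.obj M) q, x = 0 := fun x => by
    rw [← CohFin.mapL_id (f := p) (M := T.obj M) q x, hz, CohFin.mapL_zero]
  exact (key a).trans (key b).symm

omit p in
theorem van_ext (hL : PicF.IsInvertible L) (S : ShortComplex X.Modules) (hS : S.ShortExact)
    (h₁ : Van L S.X₁) (h₃ : Van L S.X₃) : Van L S.X₂ := by
  obtain ⟨d₁, h₁⟩ := h₁
  obtain ⟨d₃, h₃⟩ := h₃
  exact ⟨max d₁ d₃, fun d hd q hq => Groth.FlatMor2.StratVanish.subsingleton_HH_middle
    (Groth.PicAux.shortExact_tensorRightMod (Groth.PicAux.isInvertible_tensorPow hL d) hS) q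
    (h₁ d ((le_max_left _ _).trans hd) q hq) (h₃ d ((le_max_right _ _).trans hd) q hq)⟩

/-- Direct images along finite morphisms with ample inverse image have eventual vanishing. -/
theorem van_push (hL : PicF.IsInvertible L) {Y : Scheme.{u}} (g : Y ⟶ X) [IsFinite g]
    (hg : CohB1.IsAmple ((Scheme.Modules.pullback g).obj L)) (G : Y.Modules) (hG : Coh.IsCoh G) :
    Van L ((Scheme.Modules.pushforward g).obj G) := by
  haveI := hG.1
  haveI : IsProper (g ≫ p) := inferInstance
  obtain ⟨d₀, hd⟩ := Groth.PnCoh.exists_subsingleton_of_isAmple (g ≫ p) hg G hG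
  refine ⟨d₀, fun d hdd q hq => ?_⟩
  have hLd := Groth.PicAux.isInvertible_tensorPow hL d
  obtain ⟨θ, -⟩ := Groth.PnCoh.exists_projectionFormula g G hLd
  obtain ⟨π⟩ := Groth.PicAux.pullback_tensorPow g L d
  let N := CohB1.tensorMod G ((Scheme.Modules.pullback g).obj (CohB1.tensorPow L d))
  have h1 : Subsingleton (Coh.HH Y N q) :=
    Groth.PnCoh.subsingleton_HH_of_iso (g ≫ p)
      (PicGrp.tensorModIso (Iso.refl G) π.symm) (hd d hdd q hq)
  haveI : (CohB1.tensorPow L d).IsQuasicoherent := Groth.PicAux.isQCoh_of_isInvertible hLd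
  haveI := Groth.QCohMod.isQCoh_pullback_obj g (CohB1.tensorPow L d)
  haveI : X.IsSeparated := ⟨by rw [← terminal.comp_from p]; infer_instance⟩
  haveI : CompactSpace X := QuasiCompact.compactSpace_of_compactSpace p
  haveI : CompactSpace Y := QuasiCompact.compactSpace_of_compactSpace g
  haveI : Y.IsSeparated := ⟨by rw [← terminal.comp_from g]; infer_instance⟩
  haveI : N.IsQuasicoherent := Groth.QCohMod.isQCoh_tensorMod
  obtain ⟨e⟩ := Groth.CohFin.nonempty_linearEquiv_push g p q N
  have h2 : Subsingleton (Coh.HH X ((Scheme.Modules.pushforward g).obj N) q) := by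
    haveI : Subsingleton (Groth.CohFin.HA (g ≫ p) N q) := h1
    exact (e.toEquiv.subsingleton :)
  exact Groth.PnCoh.subsingleton_HH_of_iso p θ.symm h2

omit p in
/-- Over every point there is an integral scheme finite and surjective over its closure. -/
theorem exists_witness {Z : Scheme.{u}} (f : Z ⟶ X) [IsFinite f] [Surjective f]
    {ξ : X} {Y : Closeds X} (hY : (Y : Set X) = closure {ξ}) [IsNoetherian X] :
    ∃ (Z' : Scheme.{u}) (j : Z' ⟶ Z) (_ : IsFinite j),
      let G := (Scheme.Modules.pushforward (j ≫ f)).obj (Coh.structureModule Z')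
      Coh.IsCoh G ∧ Nontrivial ↑(G.presheaf.stalk ξ) ∧
        ∀ a ∈ IsLocalRing.maximalIdeal (X.presheaf.stalk ξ), ∀ m : ↑(G.presheaf.stalk ξ),
          a • m = 0 := by
  haveI := Groth.CohTwo.isIntegral_closure_subscheme hY
  let i := (Scheme.IdealSheafData.vanishingIdeal Y).subschemeι
  let fY := pullback.snd f i
  haveI : IsFinite fY := inferInstance
  haveI : Surjective fY := inferInstance
  obtain ⟨Z', k, hk, hint, hsurj⟩ := Groth.RefRank.exists_integral_closed_surjective fY
  let q := k ≫ fY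
  refine ⟨Z', k ≫ pullback.fst f i, inferInstance, ?_⟩
  haveI : IsLocallyNoetherian (Scheme.IdealSheafData.vanishingIdeal Y).subscheme :=
    LocallyOfFiniteType.isLocallyNoetherian i
  haveI : IsLocallyNoetherian Z' := LocallyOfFiniteType.isLocallyNoetherian q
  have hH : Coh.IsCoh ((Scheme.Modules.pushforward q).obj (Coh.structureModule Z')) :=
    Groth.Cycles.isCoh_push_of_isFinite q Groth.QCohMod.isCoh_unit
  let η := genericPoint ↥(Scheme.IdealSheafData.vanishingIdeal Y).subscheme
  let H := (Scheme.Modules.pushforward q).obj (Coh.structureModule Z')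
  have hne : Nontrivial (H.presheaf.stalk η) := by
    refine not_subsingleton_iff_nontrivial.1 fun hs => ?_
    let one : Γ(H, ⊤) := (1 : Γ(Z', q ⁻¹ᵁ ⊤))
    obtain ⟨W, hW, iU, iV, h⟩ := TopCat.Presheaf.germ_eq H.presheaf η (U := ⊤) (V := ⊤)
      trivial trivial one 0 (Subsingleton.elim _ _)
    obtain ⟨z, hz⟩ := q.surjective η
    haveI : Nonempty (q ⁻¹ᵁ W : Z'.Opens) := ⟨⟨z, show q z ∈ W from hz ▸ hW⟩⟩
    rw [map_zero] at h
    have h' : (Z'.presheaf.map (homOfLE (q.preimage_mono (le_top : W ≤ ⊤))).op).hom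
        (1 : Γ(Z', q ⁻¹ᵁ ⊤)) = 0 := h
    rw [map_one] at h'
    exact one_ne_zero h'
  obtain ⟨hG, -, hGn, hGk⟩ := Groth.CohTwo.push_closure_witness hY H hH hne
  let φ : (Scheme.Modules.pushforward i).obj H ≅
      (Scheme.Modules.pushforward ((k ≫ pullback.fst f i) ≫ f)).obj (Coh.structureModule Z') :=
    (Scheme.Modules.pushforwardComp q i).app (Coh.structureModule Z') ≪≫
      (Scheme.Modules.pushforwardCongr
        (show q ≫ i = (k ≫ pullback.fst f i) ≫ f by
          simp only [q, fY, Category.assoc, pullback.condition])).app _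
  haveI := hG.1
  refine ⟨?_, ?_, ?_⟩
  · exact Groth.QCohMod.isCoh_of_iso φ hG
  · haveI : Nontrivial ↑((Groth.QCohMod.stalk ξ).obj ((Scheme.Modules.pushforward i).obj H)) := hGn
    exact (Equiv.ofBijective _ (ConcreteCategory.bijective_of_isIso
      ((Groth.QCohMod.stalk ξ).map φ.hom))).symm.nontrivial
  · intro a ha m
    obtain ⟨m, rfl⟩ := (ConcreteCategory.bijective_of_isIso
      ((Groth.QCohMod.stalk ξ).map φ.hom)).2 m
    change a • Groth.CohTwo.stalkLin φ.hom ξ m = 0
    rw [← map_smul, hGk a ha m, map_zero]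

/-- **Ampleness descends along finite surjective morphisms.** -/
theorem isAmple_of_pullback {Z : Scheme.{u}} (f : Z ⟶ X) [IsFinite f] [Surjective f]
    (hL : PicF.IsInvertible L) (hf : CohB1.IsAmple ((Scheme.Modules.pullback f).obj L)) :
    CohB1.IsAmple L := by
  haveI : IsLocallyNoetherian X := LocallyOfFiniteType.isLocallyNoetherian p
  haveI : CompactSpace X := QuasiCompact.compactSpace_of_compactSpace p
  haveI : IsNoetherian X := ⟨⟩
  have key : ∀ F : X.Modules, Coh.IsCoh F → Van L F := by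
    intro F hF
    refine coh_induction (Van L) (van_congr p) (van_of_isZero p)
      (fun S hS _ _ _ h1 h3 => van_ext hL S hS h1 h3) Set.univ ?_ isClosed_univ F hF
      (Set.subset_univ _)
    intro Y ξ hY _ F' hF' hkill hsmall
    haveI := hF'.1
    obtain ⟨Z', j, hj, hG, hGn, hGk⟩ := exists_witness f hY
    haveI := hGn
    haveI : IsLocallyNoetherian Z' := LocallyOfFiniteType.isLocallyNoetherian (j ≫ f)
    refine step_ext (Van L) (van_of_isZero p) (fun S hS _ _ _ h1 h3 => van_ext hL S hS h1 h3)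
      (fun M r _ hr h => van_of_retract p (Sigma.ι (fun _ : Fin r => M) ⟨0, hr⟩)
        (powProj M ⟨0, hr⟩) (by rw [ι_powProj, if_pos rfl]) h) hsmall hG hGk
      (fun J hJ => ?_) hF' (hkill.support_subset.trans (by simp))
      (fun a ha m => hkill.stalk_maximalIdeal hY a ha m)
    haveI := hG.1
    refine ⟨_, 𝟙 _, inferInstance, isQCoh_idealMul J _, ?_, ?_⟩
    · rw [Category.id_comp]
      exact bijective_stalk_idealMulι J _ hJ
    · obtain ⟨e, -⟩ := Groth.Agent.S9523.result (j ≫ f) (Coh.structureModule Z')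
        Groth.QCohMod.isCoh_unit.1 J
      haveI : (Coh.structureModule Z').IsQuasicoherent := Groth.QCohMod.isCoh_unit.1
      haveI := isQCoh_idealMul (J.comap (j ≫ f)) (Coh.structureModule Z')
      exact van_congr p _ _ ⟨e.symm⟩ (van_push p hL (j ≫ f)
        (Groth.Chow.isAmple_of_iso ((Scheme.Modules.pullbackComp j f).app L)
          (Groth.Chow.isAmple_pullback_of_isAffineHom j hf)) _
        (Groth.QCohMod.isCoh_of_mono (Dual3.idealMulι _ _) Groth.QCohMod.isCoh_unit))
  refine AmpleTwo.isAmple_of_hasVan_bot p hL fun G hG _ => ?_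
  obtain ⟨d₀, hd⟩ := key G hG
  exact ⟨d₀, fun d hdd => hd d hdd 1 one_pos⟩

end Groth.Limits.AmpleFinite
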